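import Cfsg.Agent.Lib.CommCover12.PermGood
import Cfsg.Agent.Lib.Brauer.AltMultiplier

/-!
Commutation of lifts in a perfect double cover of an alternating group, and the consequence that
all elements are commutators.
-/

set_option autoImplicit false

namespace Cfsg.Agent.Lib.CommCover12

open Equiv Equiv.Perm
open Cfsg.Agent.Lib.Brauer
open scoped commutatorElement

universe u

/-- A perfect double cover of an alternating group, as a map to permutations. -/
structure IsCoverMap {G : Type u} [Group G] {n : ℕ} (π : G →* Perm (Fin n)) (z : G) : Prop where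
  range_eq : π.range = alternatingGroup (Fin n)
  perfect : commutator G = ⊤
  mem_ker : ∀ x : G, π x = 1 → x = 1 ∨ x = z
  comm : ∀ x : G, x * z = z * x
  sq : z * z = 1
  ne_one : z ≠ 1
  map_z : π z = 1

namespace IsCoverMap

variable {G : Type u} [Group G] {n : ℕ} {π : G →* Perm (Fin n)} {z : G}

theorem lift (h : IsCoverMap π z) {p : Perm (Fin n)} (hp : sign p = 1) : ∃ x, π x = p :=
  MonoidHom.mem_range.1 (by rw [h.range_eq]; exact mem_alternatingGroup.2 hp)

theorem sign_map (h : IsCoverMap π z) (x : G) : sign (π x) = 1 :=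
  mem_alternatingGroup.1 (h.range_eq ▸ MonoidHom.mem_range.2 ⟨x, rfl⟩)

theorem eq_or (h : IsCoverMap π z) {x y : G} (e : π x = π y) : y = x ∨ y = x * z := by
  rcases h.mem_ker (x⁻¹ * y) (by rw [map_mul, map_inv, e, inv_mul_cancel]) with e' | e'
  · exact Or.inl (inv_mul_eq_one.1 e').symm
  · exact Or.inr (by rw [← e', mul_inv_cancel_left])

theorem conj_lift (h : IsCoverMap π z) {s x : G} (e : π s * π x = π x * π s) :
    s * x * s⁻¹ = x ∨ s * x * s⁻¹ = x * z :=
  h.eq_or (by rw [map_mul, map_mul, map_inv, e, mul_inv_cancel_right])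

theorem sq_eq (h : IsCoverMap π z) {x y : G} (hx : (π x).cycleType = {2, 2})
    (hy : (π y).cycleType = {2, 2}) : x * x = y * y := by
  obtain ⟨d, hd⟩ := isConj_iff.1 (isConj_iff_cycleType_eq.2 (hx.trans hy.symm))
  obtain ⟨p, q, hpq, hxp, hp, -⟩ := exists_split {2} {2} (π x) hx
  have hps : sign p = -1 := by rw [sign_of_cycleType, hp]; rfl
  have hpc : p * π x * p⁻¹ = π x := by
    rw [← hxp, show p * (p * q) * p⁻¹ = p * (p * q * p⁻¹) by group, hpq.commute.eq]
    group
    rw [hpq.commute.eq]
  obtain ⟨e, he, hed⟩ : ∃ e, sign e = 1 ∧ e * π x * e⁻¹ = π y := by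
    rcases Int.units_eq_one_or (sign d) with hs | hs
    · exact ⟨d, hs, hd⟩
    · refine ⟨d * p, by rw [map_mul, hs, hps]; rfl, ?_⟩
      rw [show d * p * π x * (d * p)⁻¹ = d * (p * π x * p⁻¹) * d⁻¹ by group, hpc, hd]
  obtain ⟨g, rfl⟩ := h.lift he
  have hx2 : π (x * x) = 1 := by
    have hdvd : orderOf (π x) = 2 := by rw [← lcm_cycleType, hx]; rfl
    rw [map_mul, ← pow_two, ← hdvd, pow_orderOf_eq_one]
  have hc : g * (x * x) * g⁻¹ = x * x := by
    rcases h.mem_ker _ hx2 with e1 | e1 <;> rw [e1]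
    · group
    · rw [h.comm, mul_inv_cancel_right]
  have key : g * x * g⁻¹ * (g * x * g⁻¹) = x * x := by
    rw [show g * x * g⁻¹ * (g * x * g⁻¹) = g * (x * x) * g⁻¹ by group, hc]
  rcases h.eq_or (x := g * x * g⁻¹) (y := y) (by rw [map_mul, map_mul, map_inv, hed]) with e1 | e1
  · rw [e1, key]
  · rw [e1, show g * x * g⁻¹ * z * (g * x * g⁻¹ * z) = g * x * g⁻¹ * (z * (g * x * g⁻¹)) * z by group,
      ← h.comm, show g * x * g⁻¹ * (g * x * g⁻¹ * z) * z = g * x * g⁻¹ * (g * x * g⁻¹) * (z * z) by group,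
      key, h.sq, mul_one]

theorem cyc_mul_cyc {m : ℕ} {i j : Fin m} (hij : i ≠ j) :
    (AltMultiplier.cyc i * AltMultiplier.cyc j).cycleType = {2, 2} := by
  open Cfsg.Agent.Lib.Brauer.AltMultiplier in
  have hq : q i ≠ q j := fun e => hij (q_injective e)
  open Cfsg.Agent.Lib.Brauer.AltMultiplier in
  have he : cyc i * cyc j = Equiv.swap 0 (q i) * Equiv.swap 1 (q j) := by
    refine Equiv.ext fun x => ?_
    rcases eq_or_ne x 0 with rfl | h0
    · simp [cyc_zero, cyc_one, swap_apply_of_ne_of_ne, AltMultiplier.zero_ne_one', (q_ne_zero j).symm]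
    rcases eq_or_ne x 1 with rfl | h1
    · simp [cyc_one, cyc_other i (q_ne_zero j) (q_ne_one j) hq.symm, swap_apply_of_ne_of_ne,
        q_ne_zero, hq.symm]
    rcases eq_or_ne x (q j) with rfl | h2
    · simp [cyc_q, cyc_zero, swap_apply_of_ne_of_ne, h0, h1, (q_ne_one i).symm]
    rcases eq_or_ne x (q i) with rfl | h3
    · simp [cyc_q, cyc_other j h0 h1 h2, swap_apply_of_ne_of_ne, h1, h2]
    · simp [cyc_other j h0 h1 h2, cyc_other i h0 h1 h3, swap_apply_of_ne_of_ne, h0, h1, h2, h3]
  open Cfsg.Agent.Lib.Brauer.AltMultiplier in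
  have hd : Equiv.Perm.Disjoint (Equiv.swap (0 : Fin (m + 2)) (q i)) (Equiv.swap 1 (q j)) := by
    rw [disjoint_iff_disjoint_support, support_swap (q_ne_zero i).symm,
      support_swap (q_ne_one j).symm]
    simp [AltMultiplier.zero_ne_one'.symm, (q_ne_one i).symm, q_ne_zero, hq.symm]
  open Cfsg.Agent.Lib.Brauer.AltMultiplier in
  rw [he, hd.cycleType_mul, (IsSwap.isCycle ⟨_, _, (q_ne_zero i).symm, rfl⟩).cycleType,
    (IsSwap.isCycle ⟨_, _, (q_ne_one j).symm, rfl⟩).cycleType, support_swap (q_ne_zero i).symm,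
    support_swap (q_ne_one j).symm, Finset.card_pair (q_ne_zero i).symm,
    Finset.card_pair (q_ne_one j).symm]
  rfl

theorem sq_ne_one [Finite G] (h : IsCoverMap π z) (hn : 4 ≤ n) {x : G}
    (hx : (π x).cycleType = {2, 2}) : x * x ≠ 1 := by
  intro hx1
  obtain ⟨m, rfl⟩ : ∃ m, n = m + 2 := ⟨n - 2, by omega⟩
  have hlift : ∀ i : Fin m, ∃ a : G, a ^ 3 = 1 ∧ π a = AltMultiplier.cyc i := by
    intro i
    obtain ⟨a, ha⟩ := h.lift (mem_alternatingGroup.1 (Cfsg.Agent.Lib.Brauer.AltMultiplier.cyc_mem i))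
    rcases h.mem_ker (a ^ 3)
        (by rw [map_pow, ha, Cfsg.Agent.Lib.Brauer.AltMultiplier.cyc_pow_three]) with e | e
    · exact ⟨a, e, ha⟩
    · refine ⟨a * z, ?_, by rw [map_mul, ha, h.map_z, mul_one]⟩
      rw [(show Commute a z from h.comm a).mul_pow, e, pow_succ, pow_two, h.sq, one_mul, h.sq]
  choose a ha3 hacyc using hlift
  have h2 : ∀ i j, i ≠ j → (a i * a j) ^ 2 = 1 := by
    intro i j hij
    rw [pow_two, h.sq_eq (y := x) (by rw [map_mul, hacyc, hacyc]; exact cyc_mul_cyc hij) hx, hx1]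
  set H := Subgroup.closure (Set.range a) with hH
  have hcard : 2 * Nat.card H ≤ (m + 2).factorial :=
    Cfsg.Agent.Lib.Brauer.AltMultiplier.card_closure_le m a ha3 h2
  have hmap : H.map π = alternatingGroup (Fin (m + 2)) := by
    rw [hH, MonoidHom.map_closure, ← Set.range_comp,
      show (⇑π ∘ a) = fun i => AltMultiplier.cyc i from funext hacyc,
      Cfsg.Agent.Lib.Brauer.AltMultiplier.closure_cyc]
  have hcardA : 2 * Nat.card (alternatingGroup (Fin (m + 2))) = (m + 2).factorial := by
    rw [two_mul_nat_card_alternatingGroup, Nat.card_perm, Nat.card_eq_fintype_card, Fintype.card_fin]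
  have hzH : z ∉ H := by
    intro hz
    let f : ↥H →* ↥(H.map π) := π.subgroupMap H
    have hf : Function.Surjective f := π.subgroupMap_surjective H
    have hbij : Function.Bijective f := by
      refine ⟨fun u v huv => ?_, hf⟩
      have hle : Nat.card H ≤ Nat.card (H.map π) := by
        rw [hmap]; omega
      haveI : Fintype ↥H := Fintype.ofFinite _
      haveI : Fintype ↥(H.map π) := Fintype.ofFinite _
      have heq : Fintype.card ↥H = Fintype.card ↥(H.map π) := by
        simp only [← Nat.card_eq_fintype_card]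
        exact le_antisymm hle (Nat.card_le_card_of_surjective f hf)
      exact ((Fintype.bijective_iff_surjective_and_card f).2 ⟨hf, heq⟩).1 huv
    have := hbij.1 (a₁ := (⟨z, hz⟩ : ↥H)) (a₂ := 1) (Subtype.ext (by simpa [f] using h.map_z))
    exact h.ne_one (congrArg Subtype.val this)
  have hsplit : ∀ g : G, g ∈ H ∨ g * z ∈ H := by
    intro g
    obtain ⟨w, hw, hwg⟩ : π g ∈ H.map π := by rw [hmap, ← h.range_eq]; exact ⟨g, rfl⟩
    rcases h.eq_or hwg with e | e
    · exact Or.inl (e ▸ hw)
    · refine Or.inr ?_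
      rw [e, mul_assoc, h.sq, mul_one]
      exact hw
  have hcomm : commutator G ≤ H := by
    rw [commutator_def, Subgroup.commutator_le]
    intro g _ g' _
    have hz' : ∀ u v : G, ⁅u * z, v⁆ = ⁅u, v⁆ ∧ ⁅u, v * z⁆ = ⁅u, v⁆ := by
      intro u v
      have c1 : ∀ t, z * t = t * z := fun t => (h.comm t).symm
      simp only [commutatorElement_def, mul_inv_rev]
      refine ⟨?_, ?_⟩
      · rw [show u * z * v * (z⁻¹ * u⁻¹) * v⁻¹ = u * (z * v) * z⁻¹ * u⁻¹ * v⁻¹ by group, c1 v]
        group
      · rw [show u * (v * z) * u⁻¹ * (z⁻¹ * v⁻¹) = u * v * (z * u⁻¹) * z⁻¹ * v⁻¹ by group, c1 u⁻¹]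
        group
    have hin : ∀ u ∈ H, ∀ v ∈ H, ⁅u, v⁆ ∈ H := fun u hu v hv => by
      rw [commutatorElement_def]
      exact H.mul_mem (H.mul_mem (H.mul_mem hu hv) (H.inv_mem hu)) (H.inv_mem hv)
    rcases hsplit g with hg | hg <;> rcases hsplit g' with hg' | hg'
    · exact hin _ hg _ hg'
    · rw [← (hz' g g').2]; exact hin _ hg _ hg'
    · rw [← (hz' g g').1]; exact hin _ hg _ hg'
    · rw [← (hz' g g').1, ← (hz' (g * z) g').2]; exact hin _ hg _ hg'
  rw [h.perfect] at hcomm
  exact hzH (hcomm (Subgroup.mem_top z))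

theorem four_anticomm [Finite G] (h : IsCoverMap π z) (hn : 4 ≤ n) {A B : G}
    (hA : (π A).cycleType = {2, 2}) (hB : (π B).cycleType = {2, 2})
    (hAB : (π A * π B).cycleType = {2, 2}) (hc : π B * π A = π A * π B) :
    B * A * B⁻¹ = A * z := by
  rcases h.conj_lift hc with e | e
  swap
  · exact e
  exfalso
  have hBA : B * A = A * B := by
    conv_rhs => rw [← e]
    group
  have hsq : ∀ x : G, (π x).cycleType = {2, 2} → x * x = z := by
    intro x hx
    have hx2 : π (x * x) = 1 := by
      have hdvd : orderOf (π x) = 2 := by rw [← lcm_cycleType, hx]; rfl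
      rw [map_mul, ← pow_two, ← hdvd, pow_orderOf_eq_one]
    exact (h.mem_ker _ hx2).resolve_left (h.sq_ne_one hn hx)
  have h1 : A * B * (A * B) = z := hsq _ (by rw [map_mul]; exact hAB)
  rw [show A * B * (A * B) = A * (B * A) * B by group, hBA,
    show A * (A * B) * B = A * A * (B * B) by group, hsq A hA, hsq B hB, h.sq] at h1
  exact h.ne_one h1.symm

theorem disjoint_comm (h : IsCoverMap π z) {s : Finset (Fin n)} {S : G} (hS : (π S).support ⊆ s)
    {W : G} (hW : (π W).support ⊆ sᶜ) : S * W = W * S := by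
  classical
  let p : Fin n → Prop := fun x => x ∉ s
  have hdisj : ∀ t : Perm {x // p x}, Equiv.Perm.Disjoint (π S) (ofSubtype t) := by
    intro t x
    by_cases hx : x ∈ s
    · exact Or.inr (ofSubtype_apply_of_not_mem t (not_not_intro hx))
    · exact Or.inl (notMem_support.1 fun e => hx (hS e))
  let K : Subgroup (Perm {x // p x}) :=
    { carrier := {t | sign t = 1 ∧ ∀ T : G, π T = ofSubtype t → S * T = T * S}
      one_mem' := ⟨map_one _, fun T hT => by
        rw [map_one] at hT
        rcases h.mem_ker T hT with rfl | rfl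
        · rw [mul_one, one_mul]
        · exact h.comm S⟩
      mul_mem' := fun {t t'} ht ht' => ⟨by rw [map_mul, ht.1, ht'.1, one_mul], fun T hT => by
        obtain ⟨T₁, hT₁⟩ := h.lift (p := ofSubtype t) (by rw [sign_ofSubtype, ht.1])
        have hT₂ : π (T₁⁻¹ * T) = ofSubtype t' := by
          rw [map_mul, map_inv, hT₁, hT, map_mul, inv_mul_cancel_left]
        have e1 := ht.2 T₁ hT₁
        have e2 := ht'.2 _ hT₂
        calc S * T = (S * T₁) * (T₁⁻¹ * T) := by group
          _ = T₁ * (S * (T₁⁻¹ * T)) := by rw [e1, mul_assoc]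
          _ = T * S := by rw [e2]; group⟩
      inv_mem' := fun {t} ht => ⟨by rw [map_inv, ht.1, inv_one], fun T hT => by
        have e := ht.2 T⁻¹ (by rw [map_inv, hT, map_inv, inv_inv])
        calc S * T = T * (T⁻¹ * S) * T := by group
          _ = T * (S * T⁻¹) * T := by rw [e]
          _ = T * S := by group⟩ }
  have hK : alternatingGroup {x // p x} ≤ K := by
    rw [← closure_three_cycles_eq_alternating, Subgroup.closure_le]
    intro t ht
    refine ⟨ht.sign, fun T hT => ?_⟩
    have hcm : π S * π T = π T * π S := by rw [hT]; exact (hdisj t).commute.eq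
    rcases h.conj_lift hcm with e | e
    · calc S * T = S * T * S⁻¹ * S := by group
        _ = T * S := by rw [e]
    exfalso
    have h3 : π (T ^ 3) = 1 := by
      rw [map_pow, hT, ← map_pow, ← ht.orderOf, pow_orderOf_eq_one, map_one]
    have hcube : (S * T * S⁻¹) ^ 3 = T ^ 3 := by
      rw [conj_pow]
      rcases h.mem_ker _ h3 with e3 | e3 <;> rw [e3]
      · group
      · rw [h.comm, mul_inv_cancel_right]
    rw [e, (show Commute T z from h.comm T).mul_pow, pow_succ z, pow_two, h.sq, one_mul,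
      mul_eq_left] at hcube
    exact h.ne_one hcube
  have hsub : ∀ x, π W x ≠ x → p x := fun x hx =>
    Finset.mem_compl.1 (hW (mem_support.2 hx))
  have hmem : ∀ x, p x ↔ p (π W x) := by
    intro x
    by_cases hx : π W x = x
    · rw [hx]
    · exact ⟨fun _ => hsub _ fun e => hx ((π W).injective e), fun _ => hsub x hx⟩
  have hof : ofSubtype ((π W).subtypePerm (fun x => (hmem x).symm)) = π W :=
    ofSubtype_subtypePerm _ hsub
  have hs : sign ((π W).subtypePerm (fun x => (hmem x).symm)) = 1 := by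
    rw [← sign_ofSubtype, hof, h.sign_map]
  exact (hK (mem_alternatingGroup.2 hs)).2 W hof.symm

theorem exists_commutator [Finite G] (h : IsCoverMap π z) (hn : 5 ≤ n) (g : G) :
    ∃ a b : G, a * b * a⁻¹ * b⁻¹ = g := by
  obtain ⟨y, hy, hyg, R, hR⟩ := exists_good hn (π g) (h.sign_map g)
  obtain ⟨y₁, y₂, hd, hy12, h1, -⟩ := exists_split {2, 2} R y hR
  obtain ⟨p, q, hpq, hy1, hp, hq⟩ := exists_split {2} {2} y₁ h1
  obtain ⟨a, b, hab, rfl⟩ : p.IsSwap := card_support_eq_two.1 (by rw [← sum_cycleType, hp]; rfl)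
  obtain ⟨c, d, hcd, rfl⟩ : q.IsSwap := card_support_eq_two.1 (by rw [← sum_cycleType, hq]; rfl)
  rw [disjoint_iff_disjoint_support, support_swap hab, support_swap hcd] at hpq
  simp only [Finset.disjoint_insert_left, Finset.disjoint_singleton_left, Finset.mem_insert,
    Finset.mem_singleton, not_or] at hpq
  obtain ⟨⟨hac', had'⟩, hbc', hbd'⟩ := hpq
  have hac : a ≠ c := hac'
  have had : a ≠ d := had'
  have hbc : b ≠ c := hbc'
  have hbd : b ≠ d := hbd'
  have hct : ∀ a b c d : Fin n, a ≠ b → c ≠ d → a ≠ c → a ≠ d → b ≠ c → b ≠ d →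
      (Equiv.swap a b * Equiv.swap c d).cycleType = {2, 2} := by
    intro a b c d hab hcd hac had hbc hbd
    have hdj : Equiv.Perm.Disjoint (Equiv.swap a b) (Equiv.swap c d) := by
      rw [disjoint_iff_disjoint_support, support_swap hab, support_swap hcd]
      simp [hac.symm, had.symm, hbc.symm, hbd.symm]
    rw [hdj.cycleType_mul, (IsSwap.isCycle ⟨_, _, hab, rfl⟩).cycleType,
      (IsSwap.isCycle ⟨_, _, hcd, rfl⟩).cycleType, support_swap hab, support_swap hcd,
      Finset.card_pair hab, Finset.card_pair hcd]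
    rfl
  -- the two double transpositions
  set σ := Equiv.swap a c * Equiv.swap b d with hσ
  have hσt : σ.cycleType = {2, 2} := hct a c b d hac hbd hab had (fun e => hbc e.symm) hcd
  have hy1t : y₁.cycleType = {2, 2} := h1
  have hprod : y₁ * σ = Equiv.swap a d * Equiv.swap b c ∧ σ * y₁ = Equiv.swap a d * Equiv.swap b c := by
    constructor <;> refine Equiv.ext fun x => ?_ <;>
      rw [← hy1, hσ] <;> simp only [Perm.mul_apply, swap_apply_def] <;> split_ifs <;> simp_all
  have hσy : (y₁ * σ).cycleType = {2, 2} := by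
    rw [hprod.1]; exact hct a d b c had hbc hab hac (fun e => hbd e.symm) (fun e => hcd e.symm)
  have hσsign : sign σ = 1 := by rw [sign_of_cycleType, hσt]; rfl
  have hy1sign : sign y₁ = 1 := by rw [sign_of_cycleType, hy1t]; rfl
  obtain ⟨S, hS⟩ := h.lift hσsign
  obtain ⟨A, hA⟩ := h.lift hy1sign
  obtain ⟨W, hW⟩ := h.lift (p := y₂) (by
    rw [← hy12, map_mul, hy1sign, one_mul] at hy
    exact hy)
  have hsuppS : (π S).support ⊆ y₁.support := by
    rw [hS, hσ, ← hy1]
    have hd1 : Equiv.Perm.Disjoint (Equiv.swap a b) (Equiv.swap c d) := by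
      rw [disjoint_iff_disjoint_support, support_swap hab, support_swap hcd]
      simp [hac.symm, had.symm, hbc.symm, hbd.symm]
    rw [hd1.support_mul, support_swap hab, support_swap hcd]
    refine (support_mul_le _ _).trans ?_
    rw [support_swap hac, support_swap hbd]
    intro x hx
    simp only [Finset.sup_eq_union, Finset.mem_union, Finset.mem_insert, Finset.mem_singleton] at hx ⊢
    tauto
  have hSW : S * W = W * S := by
    refine h.disjoint_comm hsuppS ?_
    rw [hW]
    intro x hx
    rw [Finset.mem_compl]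
    exact Finset.disjoint_right.1 (disjoint_iff_disjoint_support.1 hd) hx
  have hSA : S * A * S⁻¹ = A * z :=
    h.four_anticomm (by omega) (by rw [hA]; exact hy1t) (by rw [hS]; exact hσt)
      (by rw [hA, hS]; exact hσy) (by rw [hA, hS, hprod.2, hprod.1])
  have hSY : S * (A * W) * S⁻¹ = A * W * z := by
    calc S * (A * W) * S⁻¹ = S * A * S⁻¹ * (S * W * S⁻¹) := by group
      _ = A * z * W := by rw [hSA, hSW, mul_inv_cancel_right]
      _ = A * W * z := by rw [mul_assoc, ← h.comm, mul_assoc]
  -- the conjugating even permutation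
  obtain ⟨e, he, hey⟩ : ∃ e, sign e = 1 ∧ e * y * e⁻¹ = π g * y := by
    obtain ⟨d', hd'⟩ := isConj_iff.1 (isConj_iff_cycleType_eq.2 hyg.symm)
    rcases Int.units_eq_one_or (sign d') with hs | hs
    · exact ⟨d', hs, hd'⟩
    · refine ⟨d' * Equiv.swap a b, by rw [map_mul, hs, sign_swap hab]; rfl, ?_⟩
      have hcomm : Equiv.swap a b * y = y * Equiv.swap a b := by
        have hab1 : Equiv.swap a b * y₁ = y₁ * Equiv.swap a b := by
          rw [← hy1, mul_assoc]
          congr 1
          exact (Equiv.Perm.Disjoint.commute (by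
            rw [disjoint_iff_disjoint_support, support_swap hab, support_swap hcd]
            simp [hac.symm, had.symm, hbc.symm, hbd.symm])).eq
        have hab2 : Equiv.swap a b * y₂ = y₂ * Equiv.swap a b := by
          refine (Equiv.Perm.Disjoint.commute ?_).eq
          intro x
          rcases hd x with hx | hx
          · left
            rw [← hy1] at hx
            by_contra hne
            have hxm : x = a ∨ x = b := by
              by_contra hxn
              push Not at hxn
              exact hne (swap_apply_of_ne_of_ne hxn.1 hxn.2)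
            have hfix : Equiv.swap c d x = x := by
              rcases hxm with rfl | rfl
              · exact swap_apply_of_ne_of_ne hac had
              · exact swap_apply_of_ne_of_ne hbc hbd
            rw [Perm.mul_apply, hfix] at hx
            exact hne hx
          · exact Or.inr hx
        rw [← hy12, ← mul_assoc, hab1, mul_assoc, hab2, mul_assoc]
      rw [show d' * Equiv.swap a b * y * (d' * Equiv.swap a b)⁻¹ =
        d' * (Equiv.swap a b * y * (Equiv.swap a b)⁻¹) * d'⁻¹ by group, hcomm, mul_inv_cancel_right, hd']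
  obtain ⟨E', hE⟩ := h.lift he
  set Y := A * W with hY
  have hπY : π Y = y := by rw [hY, map_mul, hA, hW, hy12]
  have hk : π (E' * Y * E'⁻¹ * Y⁻¹) = π g := by
    rw [map_mul, map_mul, map_mul, map_inv, map_inv, hE, hπY, hey, mul_inv_cancel_right]
  rcases h.eq_or hk with e1 | e1
  · exact ⟨E', Y, e1.symm⟩
  · refine ⟨E' * S, Y, ?_⟩
    rw [e1]
    calc E' * S * Y * (E' * S)⁻¹ * Y⁻¹ = E' * (S * Y * S⁻¹) * E'⁻¹ * Y⁻¹ := by group
      _ = E' * (Y * z) * E'⁻¹ * Y⁻¹ := by rw [hSY]
      _ = E' * Y * (z * (E'⁻¹ * Y⁻¹)) := by group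
      _ = E' * Y * E'⁻¹ * Y⁻¹ * z := by rw [← h.comm]; group

end IsCoverMap

end Cfsg.Agent.Lib.CommCover12
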