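import Mathlib.GroupTheory.Perm.Cycle.Type
import Mathlib.GroupTheory.Perm.Cycle.Concrete
import Mathlib.GroupTheory.SpecificGroups.Alternating
import Mathlib.Tactic

/-!
Every even permutation of degree at least five has the form `y' * y⁻¹` with `y`, `y'` even of one
cycle type containing at least two transpositions.
-/

set_option autoImplicit false

namespace Cfsg.Agent.Lib.CommCover12

open Equiv Equiv.Perm

/-- `E` together with `m` transpositions. -/
abbrev shape (E : Multiset ℕ) (m : ℕ) : Multiset ℕ := E + Multiset.replicate m 2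

theorem shape_add (E₁ E₂ : Multiset ℕ) (a b : ℕ) :
    shape E₁ a + shape E₂ b = shape (E₁ + E₂) (a + b) := by
  simp only [shape, Multiset.replicate_add]
  abel

/-- Each permutation `g` of cycle type `T` is a quotient of the two given shapes. -/
def Dec (T E : Multiset ℕ) (m m' : ℕ) : Prop :=
  ∀ (n : ℕ) (g : Perm (Fin n)), g.cycleType = T →
    ∃ y : Perm (Fin n), y.support ⊆ g.support ∧ y.cycleType = shape E m ∧
      (g * y).cycleType = shape E m'

theorem exists_split : ∀ (T₁ T₂ : Multiset ℕ) {n : ℕ} (g : Perm (Fin n)),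
    g.cycleType = T₁ + T₂ →
    ∃ g₁ g₂ : Perm (Fin n), Disjoint g₁ g₂ ∧ g₁ * g₂ = g ∧ g₁.cycleType = T₁ ∧ g₂.cycleType = T₂ := by
  intro T₁
  induction T₁ using Multiset.induction with
  | empty =>
    intro T₂ n g hg
    exact ⟨1, g, disjoint_one_left g, one_mul g, cycleType_one, by simpa using hg⟩
  | cons l T ih =>
    intro T₂ n g hg
    obtain ⟨c, hc, hcl⟩ : ∃ c ∈ g.cycleFactorsFinset, c.support.card = l := by
      have : l ∈ g.cycleType := by rw [hg]; simp
      rw [cycleType_def] at this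
      obtain ⟨c, hc, hcl⟩ := Multiset.mem_map.1 this
      exact ⟨c, hc, hcl⟩
    have hd : Disjoint (g * c⁻¹) c := disjoint_mul_inv_of_mem_cycleFactorsFinset hc
    have hgeq : g * c⁻¹ * c = g := inv_mul_cancel_right g c
    have hct : c.cycleType = {l} := by
      rw [(mem_cycleFactorsFinset_iff.1 hc).1.cycleType, hcl]
    have hrest : (g * c⁻¹).cycleType = T + T₂ := by
      have h := hd.cycleType_mul
      rw [hgeq, hg, hct, Multiset.cons_add, ← Multiset.singleton_add, add_comm _ ({l} : Multiset ℕ)] at h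
      exact (add_left_cancel h).symm
    obtain ⟨g₁, g₂, h12, hmul, h1, h2⟩ := ih T₂ (g * c⁻¹) hrest
    have hsub : g₁.support ⊆ (g * c⁻¹).support ∧ g₂.support ⊆ (g * c⁻¹).support := by
      rw [← hmul, h12.support_mul]
      exact ⟨Finset.subset_union_left, Finset.subset_union_right⟩
    have hc1 : Disjoint c g₁ := hd.symm.mono le_rfl hsub.1
    have hc2 : Disjoint c g₂ := hd.symm.mono le_rfl hsub.2
    refine ⟨c * g₁, g₂, hc2.mul_left h12, ?_, ?_, h2⟩
    · rw [mul_assoc, hmul, hd.symm.commute.eq, hgeq]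
    · rw [hc1.cycleType_mul, hct, h1, Multiset.singleton_add]

theorem support_mul_subset {n : ℕ} {g y : Perm (Fin n)} (h : y.support ⊆ g.support) :
    (g * y).support ⊆ g.support :=
  (support_mul_le g y).trans (sup_le le_rfl h)

theorem Dec.combine {T₁ T₂ E₁ E₂ : Multiset ℕ} {a a' b b' : ℕ} (h₁ : Dec T₁ E₁ a a')
    (h₂ : Dec T₂ E₂ b b') : Dec (T₁ + T₂) (E₁ + E₂) (a + b) (a' + b') := by
  intro n g hg
  obtain ⟨g₁, g₂, hd, rfl, t1, t2⟩ := exists_split T₁ T₂ g hg
  obtain ⟨y₁, s₁, u₁, v₁⟩ := h₁ n g₁ t1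
  obtain ⟨y₂, s₂, u₂, v₂⟩ := h₂ n g₂ t2
  refine ⟨y₁ * y₂, ?_, ?_, ?_⟩
  · rw [(hd.mono s₁ s₂).support_mul, hd.support_mul]
    exact Finset.union_subset_union s₁ s₂
  · rw [(hd.mono s₁ s₂).cycleType_mul, u₁, u₂, shape_add]
  · have hc : Commute g₂ y₁ := ((hd.mono s₁ le_rfl).commute).symm
    have he : g₁ * g₂ * (y₁ * y₂) = (g₁ * y₁) * (g₂ * y₂) := hc.mul_mul_mul_comm g₁ y₂
    rw [he, (hd.mono (support_mul_subset s₁) (support_mul_subset s₂)).cycleType_mul, v₁, v₂,
      shape_add]

theorem Dec.swap {T E : Multiset ℕ} {m m' : ℕ} (h : Dec T E m m') : Dec T E m' m := by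
  intro n g hg
  obtain ⟨y, hs, hy, hy'⟩ := h n g⁻¹ (by rw [cycleType_inv, hg])
  refine ⟨g⁻¹ * y, ?_, hy', by rw [mul_inv_cancel_left]; exact hy⟩
  rw [support_inv] at hs
  exact (support_mul_le _ _).trans (sup_le (by rw [support_inv]) hs)

theorem Dec.of_witness {T E : Multiset ℕ} {m m' : ℕ}
    (h : ∀ n, T.sum ≤ n → ∃ g y : Perm (Fin n), g.cycleType = T ∧ y.support ⊆ g.support ∧
      y.cycleType = shape E m ∧ (g * y).cycleType = shape E m') : Dec T E m m' := by
  intro n g hg
  obtain ⟨g₀, y₀, hg₀, hs, hy, hy'⟩ := h n (by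
    rw [← hg, sum_cycleType]
    simpa using Finset.card_le_univ g.support)
  obtain ⟨π, rfl⟩ := isConj_iff.1 (isConj_iff_cycleType_eq.2 (hg₀.trans hg.symm))
  refine ⟨π * y₀ * π⁻¹, ?_, by rw [cycleType_conj, hy], ?_⟩
  · rw [support_conj, support_conj]
    exact Finset.map_subset_map.2 hs
  · rw [show π * g₀ * π⁻¹ * (π * y₀ * π⁻¹) = π * (g₀ * y₀) * π⁻¹ by group, cycleType_conj, hy']

section Transfer

variable {N n : ℕ} (hN : N ≤ n)

/-- Extend a permutation of the first `N` points. -/
noncomputable def ext (p : Perm (Fin N)) : Perm (Fin n) :=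
  p.viaFintypeEmbedding (Fin.castLEEmb hN)

theorem cycleType_ext (p : Perm (Fin N)) : (ext hN p).cycleType = p.cycleType := by
  unfold ext Equiv.Perm.viaFintypeEmbedding
  exact cycleType_extendDomain _

theorem ext_mul (p q : Perm (Fin N)) : ext hN (p * q) = ext hN p * ext hN q := by
  unfold ext Equiv.Perm.viaFintypeEmbedding
  exact (extendDomain_mul _ p q).symm

theorem ext_apply (p : Perm (Fin N)) (i : Fin N) :
    ext hN p (Fin.castLE hN i) = Fin.castLE hN (p i) :=
  Equiv.Perm.viaFintypeEmbedding_apply_image p (Fin.castLEEmb hN) i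

theorem ext_support (p q : Perm (Fin N)) (h : p.support ⊆ q.support) :
    (ext hN p).support ⊆ (ext hN q).support := by
  intro v hv
  rw [mem_support] at hv ⊢
  by_cases hr : v ∈ Set.range (Fin.castLEEmb hN)
  · obtain ⟨i, rfl⟩ := hr
    rw [Fin.castLEEmb_apply, ext_apply] at hv ⊢
    have := h (mem_support.2 fun e => hv (congrArg _ e))
    exact fun e => mem_support.1 this (Fin.castLE_injective hN e)
  · exact absurd (Equiv.Perm.viaFintypeEmbedding_apply_notMem_range p _ hr) hv

end Transfer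

theorem Dec.of_example {T E : Multiset ℕ} {m m' N : ℕ} (g y : Perm (Fin N)) (hN : T.sum = N)
    (h : g.cycleType = T ∧ y.support ⊆ g.support ∧ y.cycleType = shape E m ∧
      (g * y).cycleType = shape E m') : Dec T E m m' := by
  refine Dec.of_witness fun n hn => ?_
  have hNn : N ≤ n := hN ▸ hn
  exact ⟨ext hNn g, ext hNn y, by rw [cycleType_ext, h.1], ext_support hNn _ _ h.2.1,
    by rw [cycleType_ext, h.2.2.1], by rw [← ext_mul, cycleType_ext, h.2.2.2]⟩

/-- The inductive state for one cycle. -/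
def Blk (l : ℕ) (E : Multiset ℕ) (m m' : ℕ) : Prop :=
  ∀ n, l ≤ n → ∃ g y : Perm (Fin n), ∃ x, g.cycleType = {l} ∧ y.support ⊆ g.support ∧
    y.cycleType = shape E m ∧ (g * y).cycleType = shape E m' ∧ x ∈ g.support ∧ (g * y) x = x

theorem Blk.dec {l : ℕ} {E : Multiset ℕ} {m m' : ℕ} (h : Blk l E m m') : Dec {l} E m m' := by
  refine Dec.of_witness fun n hn => ?_
  obtain ⟨g, y, x, h1, h2, h3, h4, -⟩ := h n (by simpa using hn)
  exact ⟨g, y, h1, h2, h3, h4⟩

theorem cycle_extend {n : ℕ} {c : Perm (Fin n)} (hc : c.IsCycle) {x r : Fin n} (hx : x ∈ c.support)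
    (hr : r ∉ c.support) : (c * Equiv.swap x r).IsCycle ∧ (c * Equiv.swap x r).support = insert r c.support := by
  have hcx : c x ∈ c.support := apply_mem_support.2 hx
  have hform := formPerm_toList c (c x)
  rw [hc.cycleOf_eq (mem_support.1 hcx)] at hform
  have hnd := nodup_toList c (c x)
  have hmem : ∀ z, z ∈ c.toList (c x) ↔ z ∈ c.support := by
    intro z
    rw [mem_toList_iff]
    exact ⟨fun h => h.1.mem_support_iff.1 h.2, fun h => ⟨hc.sameCycle (mem_support.1 hcx) (mem_support.1 h), hcx⟩⟩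
  obtain ⟨t, ht⟩ : ∃ t, c.toList (c x) = c x :: t := by
    cases hl : c.toList (c x) with
    | nil => exact absurd ((hmem (c x)).2 hcx) (by rw [hl]; simp)
    | cons a t =>
      refine ⟨t, ?_⟩
      have h0 := getElem_toList c (c x) 0 (by rw [hl]; simp)
      simp only [hl, List.getElem_cons_zero, pow_zero, Perm.one_apply] at h0
      rw [h0]
  have hrl : r ∉ c.toList (c x) := fun h => hr ((hmem r).1 h)
  rw [ht] at hform hnd hmem hrl
  have heq : c * Equiv.swap x r = List.formPerm (r :: c x :: t) := by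
    rw [List.formPerm_cons_cons, hform, Equiv.mul_swap_eq_swap_mul, notMem_support.1 hr,
      Equiv.swap_comm]
  have hnd' : (r :: c x :: t).Nodup := List.nodup_cons.2 ⟨hrl, hnd⟩
  refine ⟨by rw [heq]; exact List.isCycle_formPerm hnd' (by simp), ?_⟩
  rw [heq, List.support_formPerm_of_nodup _ hnd' (by simp)]
  ext z
  rw [List.mem_toFinset, Finset.mem_insert, List.mem_cons, hmem]

theorem Blk.step {l : ℕ} {E : Multiset ℕ} {m m' : ℕ} (h : Blk l E m m') :
    Blk (l + 1) E (m' + 1) m := by
  intro n hn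
  obtain ⟨g, y, x, hg, hs, hy, hy', hx, hfix⟩ := h n (by omega)
  obtain ⟨hcyc, hcard⟩ : g.IsCycle ∧ g.support.card = l := by
    refine ⟨card_cycleType_eq_one.1 (by rw [hg]; simp), ?_⟩
    rw [← sum_cycleType, hg]; simp
  obtain ⟨r, hr⟩ : ∃ r, r ∉ g.support := by
    by_contra hcon
    push Not at hcon
    have := congrArg Finset.card (Finset.eq_univ_iff_forall.2 hcon)
    rw [hcard, Finset.card_univ, Fintype.card_fin] at this
    omega
  have hxr : x ≠ r := fun e => hr (e ▸ hx)
  have hsub' : (g * y).support ⊆ g.support := support_mul_subset hs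
  have hd : Disjoint (g * y) (Equiv.swap x r) := by
    rw [disjoint_iff_disjoint_support, support_swap hxr, Finset.disjoint_left]
    intro z hz hz'
    simp only [Finset.mem_insert, Finset.mem_singleton] at hz'
    rcases hz' with rfl | rfl
    · exact mem_support.1 hz hfix
    · exact hr (hsub' hz)
  obtain ⟨hc2, hsupp⟩ := cycle_extend hcyc.inv (x := x) (r := r) (by rwa [support_inv])
    (by rwa [support_inv])
  have hmul : g⁻¹ * Equiv.swap x r * (g * y * Equiv.swap x r) = y := by
    rw [hd.commute.eq]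
    simp [mul_assoc]
  refine ⟨g⁻¹ * Equiv.swap x r, g * y * Equiv.swap x r, r, ?_, ?_, ?_, ?_, ?_, ?_⟩
  · rw [hc2.cycleType, hsupp, support_inv, Finset.card_insert_of_notMem hr, hcard]
  · rw [hd.support_mul, hsupp, support_inv, support_swap hxr]
    refine Finset.union_subset (hsub'.trans (Finset.subset_insert _ _)) ?_
    intro z hz
    simp only [Finset.mem_insert, Finset.mem_singleton] at hz ⊢
    rcases hz with rfl | rfl
    · exact Or.inr hx
    · exact Or.inl rfl
  · rw [hd.cycleType_mul, hy', IsSwap.isCycle ⟨x, r, hxr, rfl⟩ |>.cycleType, support_swap hxr,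
      Finset.card_pair hxr]
    simp only [shape, Multiset.replicate_succ, ← Multiset.singleton_add]
    abel
  · rw [hmul, hy]
  · rw [hsupp]; exact Finset.mem_insert_self _ _
  · rw [hmul]
    exact notMem_support.1 fun e => hr (hs e)

theorem blk_two : Blk 2 0 1 0 := by
  intro n hn
  let a : Fin n := ⟨0, by omega⟩
  let b : Fin n := ⟨1, by omega⟩
  have hab : a ≠ b := by simp [a, b]
  refine ⟨Equiv.swap a b, Equiv.swap a b, a, ?_, subset_rfl, ?_, ?_, ?_, ?_⟩
  · rw [(IsSwap.isCycle ⟨a, b, hab, rfl⟩).cycleType, support_swap hab, Finset.card_pair hab]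
  · rw [(IsSwap.isCycle ⟨a, b, hab, rfl⟩).cycleType, support_swap hab, Finset.card_pair hab]
    simp [shape]
  · simp [shape]
  · rw [support_swap hab]; simp
  · simp

theorem blk_refl : ∀ l, 2 ≤ l → Blk l 0 (l / 2) ((l - 1) / 2) := by
  intro l hl
  induction l, hl using Nat.le_induction with
  | base => exact blk_two
  | succ l hl ih =>
    have h := ih.step
    rwa [show (l + 1) / 2 = (l - 1) / 2 + 1 by omega, show (l + 1 - 1) / 2 = l / 2 by omega]

theorem blk_five : Blk 5 {4} 0 0 := by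
  intro n hn
  let g₀ : Perm (Fin 5) := List.formPerm [0, 1, 2, 3, 4]
  let y₀ : Perm (Fin 5) := List.formPerm [1, 2, 4, 3]
  have h : g₀.cycleType = {5} ∧ y₀.support ⊆ g₀.support ∧ y₀.cycleType = shape {4} 0 ∧
      (g₀ * y₀).cycleType = shape {4} 0 ∧ (4 : Fin 5) ∈ g₀.support ∧ (g₀ * y₀) 4 = 4 := by
    decide +kernel
  obtain ⟨h1, h2, h3, h4, h5, h6⟩ := h
  refine ⟨ext hn g₀, ext hn y₀, Fin.castLE hn 4, by rw [cycleType_ext, h1],
    ext_support hn _ _ h2, by rw [cycleType_ext, h3], by rw [← ext_mul, cycleType_ext, h4], ?_,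
    by rw [← ext_mul, ext_apply, h6]⟩
  rw [mem_support, ext_apply]
  exact fun e => mem_support.1 h5 (Fin.castLE_injective hn e)

theorem blk_four_cycle : ∀ l, 5 ≤ l → Blk l {4} (l / 2 - 2) ((l - 1) / 2 - 2) := by
  intro l hl
  induction l, hl using Nat.le_induction with
  | base => exact blk_five
  | succ l hl ih =>
    have h := ih.step
    rwa [show (l + 1) / 2 - 2 = (l - 1) / 2 - 2 + 1 by omega,
      show (l + 1 - 1) / 2 - 2 = l / 2 - 2 by omega]

/-- The Cayley length. -/
def len (T : Multiset ℕ) : ℕ := (T.map fun a => a - 1).sum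

theorem len_add (T U : Multiset ℕ) : len (T + U) = len T + len U := by simp [len]

theorem dec_refl : ∀ T : Multiset ℕ, (∀ a ∈ T, 2 ≤ a) → Dec T 0 (len T / 2) (len T - len T / 2) := by
  intro T
  induction T using Multiset.induction with
  | empty =>
    intro _ n g hg
    obtain rfl := cycleType_eq_zero.1 hg
    exact ⟨1, subset_rfl, by simp [shape, len], by simp [shape, len]⟩
  | cons a T ih =>
    intro hT
    have ha : 2 ≤ a := hT a (Multiset.mem_cons_self a T)
    have hR := ih fun b hb => hT b (Multiset.mem_cons_of_mem hb)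
    have hB := (blk_refl a ha).dec
    have hlen : len (a ::ₘ T) = (a - 1) + len T := by simp [len]
    rw [hlen, ← Multiset.singleton_add, ← zero_add (0 : Multiset ℕ)]
    rcases Nat.even_or_odd (len T) with ⟨s, hs⟩ | ⟨s, hs⟩
    · have h := hB.swap.combine hR
      rwa [show (a - 1) / 2 + len T / 2 = (a - 1 + len T) / 2 by omega,
        show a / 2 + (len T - len T / 2) = a - 1 + len T - (a - 1 + len T) / 2 by omega] at h
    · have h := hB.combine hR
      rwa [show a / 2 + len T / 2 = (a - 1 + len T) / 2 by omega,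
        show (a - 1) / 2 + (len T - len T / 2) = a - 1 + len T - (a - 1 + len T) / 2 by omega] at h

theorem dec_two_two : Dec {2, 2} 0 2 2 :=
  Dec.of_example (N := 4) (Equiv.swap 0 1 * Equiv.swap 2 3) (Equiv.swap 0 2 * Equiv.swap 1 3) rfl
    (by decide +kernel)

theorem dec_four_four : Dec {4, 4} 0 4 4 :=
  Dec.of_example (N := 8) (List.formPerm [0, 1, 2, 3] * List.formPerm [4, 5, 6, 7])
    (Equiv.swap 0 4 * Equiv.swap 1 7 * Equiv.swap 2 6 * Equiv.swap 3 5) rfl (by decide +kernel)

theorem dec_three : Dec {3} {3} 0 0 :=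
  Dec.of_example (N := 3) (List.formPerm [0, 1, 2]) (List.formPerm [0, 1, 2]) rfl (by decide +kernel)

theorem dec_seven : Dec {7} {3} 2 2 :=
  Dec.of_example (N := 7) (List.formPerm [0, 1, 2, 3, 4, 5, 6])
    (List.formPerm [0, 1, 4] * (Equiv.swap 2 6 * Equiv.swap 3 5)) rfl (by decide +kernel)

theorem dec_six_two : Dec {6, 2} {3} 2 2 :=
  Dec.of_example (N := 8) (List.formPerm [0, 1, 2, 3, 4, 5] * Equiv.swap 6 7)
    (List.formPerm [3, 5, 7] * (Equiv.swap 1 2 * Equiv.swap 4 6)) rfl (by decide +kernel)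

end Cfsg.Agent.Lib.CommCover12
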