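import Cfsg.Agent.Lib.CommCover12.PermDecomp

/-!
The conjugate pair for an arbitrary even permutation.
-/

set_option autoImplicit false

namespace Cfsg.Agent.Lib.CommCover12

open Equiv Equiv.Perm

theorem sign_shape {n : ℕ} {y : Perm (Fin n)} {E : Multiset ℕ} {m : ℕ}
    (hy : y.cycleType = shape E m) (h : Even (E.sum + Multiset.card E + m)) : sign y = 1 := by
  rw [sign_of_cycleType, hy]
  simp only [shape, Multiset.sum_add, Multiset.sum_replicate, Multiset.card_add,
    Multiset.card_replicate, smul_eq_mul]
  obtain ⟨s, hs⟩ := h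
  exact Even.neg_one_pow ⟨s + m, by omega⟩

/-- A decomposition with two transpositions into even elements of one type. -/
def Good {n : ℕ} (g : Perm (Fin n)) : Prop :=
  ∃ y : Perm (Fin n), sign y = 1 ∧ (g * y).cycleType = y.cycleType ∧
    ∃ R : Multiset ℕ, y.cycleType = {2, 2} + R

theorem good_of_shape {n : ℕ} {g y : Perm (Fin n)} {E : Multiset ℕ} {m : ℕ}
    (hy : y.cycleType = shape E m) (hy' : (g * y).cycleType = shape E m)
    (hev : Even (E.sum + Multiset.card E + m)) (hm : 2 ≤ m) : Good g := by
  refine ⟨y, sign_shape hy hev, hy'.trans hy.symm, E + Multiset.replicate (m - 2) 2, ?_⟩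
  rw [hy, show ({2, 2} : Multiset ℕ) = Multiset.replicate 2 2 from rfl, add_left_comm,
    ← Multiset.replicate_add]
  congr 2
  omega

theorem good_of_dec {n : ℕ} {g : Perm (Fin n)} {E : Multiset ℕ} {m : ℕ}
    (h : Dec g.cycleType E m m) (hev : Even (E.sum + Multiset.card E + m)) (hm : 2 ≤ m) : Good g := by
  obtain ⟨y, -, hy, hy'⟩ := h n g rfl
  exact good_of_shape hy hy' hev hm

theorem len_eq_zero {T : Multiset ℕ} (hT : ∀ a ∈ T, 2 ≤ a) (h : len T = 0) : T = 0 := by
  refine Multiset.eq_zero_of_forall_notMem fun a ha => ?_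
  have h1 : a - 1 ≤ len T := Multiset.le_sum_of_mem (m := T.map fun c => c - 1) (Multiset.mem_map.2 ⟨a, ha, rfl⟩)
  have h2 := hT a ha
  omega

theorem len_add_card (T : Multiset ℕ) (hT : ∀ a ∈ T, 2 ≤ a) : len T + Multiset.card T = T.sum := by
  induction T using Multiset.induction with
  | empty => simp [len]
  | cons a T ih =>
    have := ih fun b hb => hT b (Multiset.mem_cons_of_mem hb)
    have ha := hT a (Multiset.mem_cons_self a T)
    simp only [len, Multiset.map_cons, Multiset.sum_cons, Multiset.card_cons] at this ⊢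
    omega

theorem even_len {n : ℕ} {g : Perm (Fin n)} (hg : sign g = 1) : Even (len g.cycleType) := by
  have h := sign_of_cycleType g
  rw [hg, ← len_add_card _ fun a ha => two_le_of_mem_cycleType ha] at h
  rcases Nat.even_or_odd (len g.cycleType + Multiset.card g.cycleType + Multiset.card g.cycleType) with he | ho
  · rw [add_assoc] at he
    exact (Nat.even_add.1 he).2 ⟨_, rfl⟩
  · rw [ho.neg_one_pow] at h
    exact absurd h (by decide)

/-- Every even permutation of degree at least five has a good decomposition. -/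
theorem exists_good {n : ℕ} (hn : 5 ≤ n) (g : Perm (Fin n)) (hg : sign g = 1) : Good g := by
  classical
  have hT : ∀ a ∈ g.cycleType, 2 ≤ a := fun a ha => two_le_of_mem_cycleType ha
  obtain ⟨k, hk⟩ := even_len hg
  have hmain : Dec g.cycleType 0 k k := by
    have h := dec_refl g.cycleType hT
    rwa [show len g.cycleType / 2 = k by omega, show len g.cycleType - k = k by omega] at h
  -- the identity
  rcases Nat.eq_zero_or_pos k with hk0 | hkpos
  · have hT0 := len_eq_zero hT (by omega)
    obtain rfl := cycleType_eq_zero.1 hT0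
    let y : Perm (Fin 4) := Equiv.swap 0 1 * Equiv.swap 2 3
    have hy : (ext (show 4 ≤ n by omega) y).cycleType = shape 0 2 := by
      rw [cycleType_ext]; decide +kernel
    exact good_of_shape hy (by rw [one_mul]; exact hy) (by decide) le_rfl
  rcases Nat.even_or_odd k with hev | hodd
  · refine good_of_dec hmain (by simpa using hev) ?_
    obtain ⟨s, hs⟩ := hev; omega
  have hK : len g.cycleType = 2 * k := by omega
  -- two fixed points
  by_cases hf : g.support.card + 2 ≤ n
  · obtain ⟨y, hs, hy, hy'⟩ := hmain n g rfl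
    obtain ⟨a, ha, b, hb, hab⟩ : ∃ a ∈ g.supportᶜ, ∃ b ∈ g.supportᶜ, a ≠ b :=
      Finset.one_lt_card.1 (by rw [Finset.card_compl, Fintype.card_fin]; omega)
    rw [Finset.mem_compl] at ha hb
    have hd : ∀ z : Perm (Fin n), z.support ⊆ g.support → Disjoint z (Equiv.swap a b) := by
      intro z hz
      rw [disjoint_iff_disjoint_support, support_swap hab, Finset.disjoint_left]
      intro x hx hx'
      simp only [Finset.mem_insert, Finset.mem_singleton] at hx'
      rcases hx' with rfl | rfl
      · exact ha (hz hx)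
      · exact hb (hz hx)
    have hct : (Equiv.swap a b).cycleType = {2} := by
      rw [(IsSwap.isCycle ⟨a, b, hab, rfl⟩).cycleType, support_swap hab, Finset.card_pair hab]
    refine good_of_shape (y := y * Equiv.swap a b) (E := 0) (m := k + 1) ?_ ?_ ?_ (by omega)
    · rw [(hd y hs).cycleType_mul, hy, hct, shape, shape, Multiset.replicate_add, Multiset.replicate_one, add_assoc]
    · rw [← mul_assoc, (hd _ (support_mul_subset hs)).cycleType_mul, hy', hct, shape, shape,
        Multiset.replicate_add, Multiset.replicate_one, add_assoc]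
    · simpa using hodd.add_one
  push Not at hf
  have hsum : n < g.cycleType.sum + 2 := by rw [sum_cycleType]; exact hf
  have hsplit : ∀ B : Multiset ℕ, B ≤ g.cycleType → ∃ R : Multiset ℕ,
      g.cycleType = B + R ∧ len B + len R = 2 * k ∧ Dec R 0 (len R / 2) (len R - len R / 2) := by
    intro B hB
    obtain ⟨R, hR⟩ := Multiset.le_iff_exists_add.1 hB
    exact ⟨R, hR, by rw [← len_add, ← hR, hK],
      dec_refl R fun a ha => hT a (hR ▸ Multiset.mem_add.2 (Or.inr ha))⟩
  obtain ⟨s, hs⟩ := hodd
  by_cases h22 : 2 ≤ g.cycleType.count 2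
  · obtain ⟨R, hR, hlen, hd⟩ := hsplit (Multiset.replicate 2 2) (Multiset.le_count_iff_replicate_le.1 h22)
    have hl : len (Multiset.replicate 2 2) = 2 := rfl
    have h := dec_two_two.combine hd
    rw [show ({2, 2} : Multiset ℕ) = Multiset.replicate 2 2 from rfl, ← hR,
      show 2 + len R / 2 = k + 1 by omega, show 2 + (len R - len R / 2) = k + 1 by omega] at h
    exact good_of_dec h (by simpa using (show Odd k from ⟨s, hs⟩).add_one) (by omega)
  by_cases h44 : 2 ≤ g.cycleType.count 4
  · obtain ⟨R, hR, hlen, hd⟩ := hsplit (Multiset.replicate 2 4) (Multiset.le_count_iff_replicate_le.1 h44)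
    have hl : len (Multiset.replicate 2 4) = 6 := rfl
    have h := dec_four_four.combine hd
    rw [show ({4, 4} : Multiset ℕ) = Multiset.replicate 2 4 from rfl, ← hR,
      show 4 + len R / 2 = k + 1 by omega, show 4 + (len R - len R / 2) = k + 1 by omega] at h
    exact good_of_dec h (by simpa using (show Odd k from ⟨s, hs⟩).add_one) (by omega)
  by_cases h3 : 3 ∈ g.cycleType
  · obtain ⟨R, hR, hlen, hd⟩ := hsplit {3} (Multiset.singleton_le.2 h3)
    have hl : len {3} = 2 := rfl
    have hk3 : 3 ≤ k := by
      by_contra hcon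
      have hR0 : R = 0 :=
        len_eq_zero (fun a ha => hT a (hR ▸ Multiset.mem_add.2 (Or.inr ha))) (by omega)
      rw [hR, hR0] at hsum
      simp at hsum
      omega
    have h := dec_three.combine hd
    rw [← hR, show 0 + len R / 2 = k - 1 by omega, show 0 + (len R - len R / 2) = k - 1 by omega] at h
    exact good_of_dec h ⟨s + 2, by simp; omega⟩ (by omega)
  by_cases hbig : ∃ a ∈ g.cycleType, 5 ≤ a
  · obtain ⟨a, ha, ha5⟩ := hbig
    obtain ⟨R, hR, hlen, hd⟩ := hsplit {a} (Multiset.singleton_le.2 ha)
    have hl : len {a} = a - 1 := by simp [len]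
    by_cases hk5 : 5 ≤ k
    · have hB := (blk_four_cycle a ha5).dec
      rcases Nat.even_or_odd a with ⟨t, ht⟩ | ⟨t, ht⟩
      · have h := hB.combine hd
        rw [← hR, show a / 2 - 2 + len R / 2 = k - 2 by omega,
          show (a - 1) / 2 - 2 + (len R - len R / 2) = k - 2 by omega, add_zero] at h
        exact good_of_dec h ⟨s + 2, by simp; omega⟩ (by omega)
      · have h := hB.combine hd
        rw [← hR, show a / 2 - 2 + len R / 2 = k - 2 by omega,
          show (a - 1) / 2 - 2 + (len R - len R / 2) = k - 2 by omega, add_zero] at h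
        exact good_of_dec h ⟨s + 2, by simp; omega⟩ (by omega)
    have hRT : ∀ b ∈ R, 2 ≤ b := fun b hb => hT b (hR ▸ Multiset.mem_add.2 (Or.inr hb))
    have hRne3 : ∀ b ∈ R, b ≠ 3 := fun b hb e => h3 (hR ▸ Multiset.mem_add.2 (Or.inr (e ▸ hb)))
    have hRle : ∀ b ∈ R, b - 1 ≤ len R := fun b hb =>
      Multiset.le_sum_of_mem (m := R.map fun c => c - 1) (Multiset.mem_map.2 ⟨b, hb, rfl⟩)
    have hR2 : R = Multiset.replicate (R.count 2) 2 ∨ ∃ b ∈ R, 4 ≤ b := by
      by_cases h4 : ∃ b ∈ R, 4 ≤ b
      · exact Or.inr h4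
      · left
        push Not at h4
        have hall : ∀ b ∈ R, b = 2 := fun b hb => by
          have := hRT b hb; have := hRne3 b hb; have := h4 b hb; omega
        conv_lhs => rw [Multiset.eq_replicate_card.2 hall]
        rw [Multiset.count_eq_card.2 fun b hb => (hall b hb).symm]
    have hcount : R.count 2 ≤ 1 := by
      have := Multiset.le_iff_count.1 (show R ≤ g.cycleType from hR ▸ Multiset.le_add_left _ _) 2
      omega
    rcases hR2 with hR2 | ⟨b, hb, hb4⟩
    · have hlR : len R = R.count 2 := by
        conv_lhs => rw [hR2]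
        simp [len, Multiset.map_replicate]
      rcases (show R.count 2 = 0 ∨ R.count 2 = 1 by omega) with hc | hc
      · rw [hc] at hR2
        rw [hR2, show a = 7 by omega, Multiset.replicate_zero, add_zero] at hR
        exact good_of_dec (hR ▸ dec_seven) (by decide) le_rfl
      · rw [hc] at hR2
        rw [hR2, show a = 6 by omega] at hR
        have h62 : Dec g.cycleType {3} 2 2 := by rw [hR]; exact dec_six_two
        exact good_of_dec h62 (by decide) le_rfl
    · have := hRle b hb
      omega
  -- no further cases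
  exfalso
  push Not at hbig
  have hT24 : ∀ b ∈ g.cycleType, b = 2 ∨ b = 4 := fun b hb => by
    have := hT b hb; have := hbig b hb
    have : b ≠ 3 := fun e => h3 (e ▸ hb)
    omega
  have hlen24 : len g.cycleType = g.cycleType.count 2 + 3 * g.cycleType.count 4 := by
    have hform : ∀ T : Multiset ℕ, (∀ b ∈ T, b = 2 ∨ b = 4) → len T = T.count 2 + 3 * T.count 4 := by
      intro T
      induction T using Multiset.induction with
      | empty => simp [len]
      | cons b T ih =>
        intro h
        have e := ih fun c hc => h c (Multiset.mem_cons_of_mem hc)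
        simp only [len, Multiset.map_cons, Multiset.sum_cons] at e ⊢
        rcases h b (Multiset.mem_cons_self b T) with rfl | rfl <;> simp [e] <;> omega
    exact hform _ hT24
  rcases (show g.cycleType.count 4 = 0 ∨ g.cycleType.count 4 = 1 by omega) with h | h <;>
    rw [h] at hlen24 <;> omega

end Cfsg.Agent.Lib.CommCover12
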